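import Groth.Agent.L09.Artin.Atlas.Rep
import Groth.Agent.L09.Artin.Chart.Cover
import Groth.Agent.L09.Artin.Sat.Saturate
import Groth.Agent.L24.Multi.Glue

/-!
# A stack with a flat atlas of finite presentation is algebraic
-/

set_option autoImplicit false
set_option backward.isDefEq.respectTransparency false
set_option backward.isDefEq.respectTransparency.types false

universe u

open CategoryTheory CategoryTheory.Limits AlgebraicGeometry Opposite AlgSp

noncomputable section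

namespace Groth.L09.Artin.Cand

open Groth.L05.Point (Nhd)
open Groth.L24.St (exists_iso_of_evalId appIso overId_app)

variable {S : Scheme.{u}} {𝒳 : AlgSt.Cat S} {U : Over S} {f : FibCat.overCat U ⥤ᵇ 𝒳} (hA : Atl f)

theorem smooth_of_nhd {X Y : Scheme.{u}} (g : X ⟶ Y) (h : ∀ x, Nhd @Smooth g x) : Smooth g := by
  choose O hO hs using h
  exact IsZariskiLocalAtSource.iff_of_iSup_eq_top (P := @Smooth) O (top_unique fun x _ =>
    TopologicalSpace.Opens.mem_iSup.2 ⟨x, hO x⟩) |>.2 hs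

section Push

variable {ξ η : 𝒳.obj} {R R' : Over S} (hR : 𝒳.p.obj ξ = R) (hR' : 𝒳.p.obj η = R') (φ : η ⟶ ξ) (r : R' ⟶ R)
  [𝒳.p.IsHomLift r φ] {P : Over S} (π : (yon S).obj P ⟶ KSp hA hR)

/-- The chart of the space of lifts of a pullback. -/
theorem exists_chart_kPush (hπ : RepWith @Etale π) (hπs : RepWith @Surjective π) :
    ∃ l : (yon S).obj (pullback (ptEquiv hA hR π).x r) ⟶ KSp hA hR',
      RepWith @Etale l ∧ RepWith @Surjective l ∧
        l ≫ kPush hA hR hR' φ r = (yon S).map (pullback.fst (ptEquiv hA hR π).x r) ≫ π ∧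
        l ≫ uK hA hR' = (yon S).map (pullback.fst (ptEquiv hA hR π).x r ≫ (ptEquiv hA hR π).u) := by
  have sK := isPullback_kPush hA hR hR' φ r
  let l := sK.lift ((yon S).map (pullback.fst (ptEquiv hA hR π).x r) ≫ π)
    ((yon S).map (pullback.snd (ptEquiv hA hR π).x r))
    (by rw [Category.assoc, comp_xK, ← Functor.map_comp, ← Functor.map_comp, pullback.condition])
  have sl : IsPullback ((yon S).map (pullback.fst (ptEquiv hA hR π).x r)) l π (kPush hA hR hR' φ r) := by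
    refine IsPullback.of_bot ?_ (sK.lift_fst _ _ _).symm sK
    rw [sK.lift_snd, comp_xK]
    exact (IsPullback.of_hasPullback (ptEquiv hA hR π).x r).map (yon S)
  refine ⟨l, Groth.L23.repWith_of_isPullback sl hπ, Groth.L23.repWith_of_isPullback sl hπs, sK.lift_fst _ _ _, ?_⟩
  rw [← kPush_uK hA hR hR' φ r, ← Category.assoc, sK.lift_fst, Category.assoc, comp_uK, ← Functor.map_comp]

include φ in
theorem locP_smooth_uK (hπ : RepWith @Etale π) (hπs : RepWith @Surjective π) [IsOpenImmersion r.left]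
    (h : ∀ y, (ptEquiv hA hR π).x.left y ∈ Set.range r.left → Nhd @Smooth (ptEquiv hA hR π).u.left y) :
    LocP @Smooth (uK hA hR') := by
  obtain ⟨l, hl, hls, -, hlu⟩ := exists_chart_kPush hA hR hR' φ r π hπ hπs
  refine Groth.L23.locP_of_chart Groth.L23.etLocal_smooth hl hls (Groth.L23.repWith_of_isIso (𝟙 _))
    (show l ≫ uK hA hR' = (yon S).map _ ≫ 𝟙 _ by rw [Category.comp_id, hlu]) ?_
  have sq := (IsPullback.of_hasPullback (ptEquiv hA hR π).x r).map (Over.forget S)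
  have hfst : IsOpenImmersion (pullback.fst (ptEquiv hA hR π).x r).left :=
    MorphismProperty.of_isPullback (P := @IsOpenImmersion) sq.flip ‹_›
  refine smooth_of_nhd _ fun z => ?_
  rw [Over.comp_left]
  refine nhd_smooth_comp_of_etale (pullback.fst (ptEquiv hA hR π).x r).left _ (h _ ?_)
  refine ⟨(pullback.snd (ptEquiv hA hR π).x r).left z, ?_⟩
  rw [← Scheme.Hom.comp_apply, ← Scheme.Hom.comp_apply, ← Over.comp_left, ← Over.comp_left, pullback.condition]

end Push

include hA in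
/-- The open piece of the atlas for one rank. -/
theorem exists_piece (d : ℕ) [NeZero d] :
    ∃ (E : Over S) (ξ : 𝒳.obj) (hξ : 𝒳.p.obj ξ = E) (P : Over S) (π : (yon S).obj P ⟶ KSp hA hξ) (V : Over S)
      (ι : V ⟶ E), RepWith @Etale π ∧ RepWith @Surjective π ∧ IsOpenImmersion ι.left ∧
      (∀ y, (ptEquiv hA hξ π).x.left y ∈ Set.range ι.left → Nhd @Smooth (ptEquiv hA hξ π).u.left y) ∧
      ∀ u : U.left, Nonempty (ParChart hA d u) →
        ∃ y, (ptEquiv hA hξ π).x.left y ∈ Set.range ι.left ∧ (ptEquiv hA hξ π).u.left y = u := by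
  obtain ⟨E, a, ha, has⟩ := (isAlgSpace_CSp hA (f := f) (π := πStr S d)).atlas
  obtain ⟨A, rfl, hAa⟩ := exists_cPt hA a
  rw [eqToHom_refl, CategoryTheory.Functor.map_id, Category.id_comp] at hAa
  subst hAa
  obtain ⟨P, π, hπ, hπs⟩ := (isAlgSpace_KSp hA A.hR).atlas
  let x := (ptEquiv hA A.hR π).x
  let b := (ptEquiv hA A.hR π).u
  have w : π ≫ xK hA A.hR = (yon S).map x ≫ 𝟙 _ := by rw [Category.comp_id, comp_xK]
  have hxf : Flat x.left := (flp_xK hA A.hR).1 π (𝟙 _) x hπ (Groth.L23.repWith_of_isIso _) w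
  have hxp : LocallyOfFinitePresentation x.left :=
    (flp_xK hA A.hR).2 π (𝟙 _) x hπ (Groth.L23.repWith_of_isIso _) w
  let W : TopologicalSpace.Opens P.left :=
    ⟨{y | Nhd @Smooth b.left y}, isOpen_iff_forall_mem_open.2 fun y hy => by
      obtain ⟨O, hyO, hO⟩ := hy
      exact ⟨O, fun z hz => ⟨O, hz, hO⟩, O.2, hyO⟩⟩
  let O : A.R.left.Opens := ⟨x.left '' (W : Set P.left), x.left.isOpenMap _ W.2⟩
  have : LocallyOfFinitePresentation b.left := by
    refine lfp_gS hA (uObj_p f) (π := πStr S d) (π ≫ toH hA A) (𝟙 _) b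
      (Groth.L23.repWith_comp hπ (Groth.L23.repWith_of_isPullback (isPullback_toH hA A).flip ha))
      (Groth.L23.repWith_of_isIso _) ?_
    rw [Category.assoc, toH_gS, comp_uK, Category.comp_id]
  refine ⟨A.R, A.obj, A.hR, P, π, Over.mk (O.ι ≫ A.R.hom), Over.homMk O.ι rfl, hπ, hπs,
    inferInstanceAs (IsOpenImmersion O.ι), fun y hy => ?_, fun u hu => ?_⟩
  · change x.left y ∈ Set.range O.ι at hy
    rw [Scheme.Opens.range_ι] at hy
    obtain ⟨y', hy', e⟩ := hy
    exact smooth_saturated hA A.hR π hπ e.symm hy'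
  · obtain ⟨c⟩ := hu
    obtain ⟨y, hy, e⟩ := exists_smooth_point hA c A ha has π hπ hπs
    refine ⟨y, ?_, e⟩
    show x.left y ∈ Set.range O.ι
    rw [Scheme.Opens.range_ι]
    exact ⟨y, hy, rfl⟩

include hA in
/-- A stack with a flat atlas of finite presentation has a smooth atlas, smooth over that atlas after an fppf
covering. -/
theorem exists_smooth_atlas' : ∃ (V : Over S) (q : FibCat.overCat V ⥤ᵇ 𝒳),
    AlgSt.RepByAlgSpWith (LocP @Smooth) q ∧ AlgSt.RepByAlgSpWith IsSurjectiveMor q ∧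
      ∃ (W : Over S) (x : W ⟶ V) (b : W ⟶ U),
        Flat x.left ∧ LocallyOfFinitePresentation x.left ∧ Surjective x.left ∧ Smooth b.left := by
  have h𝒳 := hA.grpd
  have := Groth.L09.Fib.isFibered_of_isFibGrpd _ h𝒳
  let I : Type u := ULift.{u} {d : ℕ // d ≠ 0}
  choose E ξ hξ P π V ι hπ hπs hι hsm hcov using fun i : I =>
    (haveI : NeZero i.down.1 := ⟨i.down.2⟩; exists_piece hA i.down.1)
  choose η₀ φ₀ hφ₀ using fun i => Groth.L09.Gerb.exists_pull h𝒳 (ξ i) (hξ i) (ι i)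
  have hη₀ : ∀ i, 𝒳.p.obj (η₀ i) = V i := fun i =>
    (haveI := hφ₀ i; IsHomLift.domain_eq 𝒳.p (ι i) (φ₀ i))
  obtain ⟨D⟩ := Groth.L24.Boot.exists_sigma V
  obtain ⟨q, hq⟩ := Groth.L24.Multi.exists_glue (fun i => Groth.L09.Fib.ofObj (hη₀ i)) D hA.stack
  -- the pieces over the disjoint union
  let η : I → 𝒳.obj := fun i => q.obj (Over.mk (D.inj i))
  let α : ∀ i, η i ⟶ qObj q := fun i =>
    q.map (Over.homMk (D.inj i) (Category.comp_id _) : Over.mk (D.inj i) ⟶ Over.mk (𝟙 D.V))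
  have hη : ∀ i, 𝒳.p.obj (η i) = V i := fun i => q.w_obj _
  have hα : ∀ i, 𝒳.p.IsHomLift (D.inj i) (α i) := fun i =>
    have : (FibCat.overCat D.V).p.IsHomLift (D.inj i)
        (Over.homMk (D.inj i) (Category.comp_id _) : Over.mk (D.inj i) ⟶ Over.mk (𝟙 D.V)) :=
      IsHomLift.map (FibCat.overCat D.V).p
        (Over.homMk (D.inj i) (Category.comp_id _) : Over.mk (D.inj i) ⟶ Over.mk (𝟙 D.V))
    inferInstanceAs (𝒳.p.IsHomLift (D.inj i) (q.map _))
  have hβ : ∀ i, ∃ β : η i ⟶ ξ i, 𝒳.p.IsHomLift (ι i) β := fun i => by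
    obtain ⟨r⟩ := hq i
    obtain ⟨ev⟩ := Groth.L09.Fib.evalAtId_ofObj (U := V i) (⟨η₀ i, hη₀ i⟩ : 𝒳.p.Fiber (V i))
    let i₁ : (Over.mk (D.inj i) : Over D.V) ≅ Over.mk (𝟙 (V i) ≫ D.inj i) :=
      Over.isoMk (Iso.refl _) ((Category.id_comp _).trans (Category.id_comp _))
    haveI : (FibCat.overCat D.V).p.IsHomLift (𝟙 (V i)) i₁.hom := IsHomLift.map (FibCat.overCat D.V).p i₁.hom
    have h1 : 𝒳.p.IsHomLift (𝟙 (V i)) (q.map i₁.hom) := inferInstance
    have h2 : 𝒳.p.IsHomLift (𝟙 (V i)) (appIso r (Groth.L24.St.idObj (V i))).hom :=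
      (overId_app r.hom _).lift ((BasedFunctor.comp (AlgSt.overMap (D.inj i)) q).w_obj _)
    have h3 : 𝒳.p.IsHomLift (𝟙 (V i)) ev.hom.1 := ev.hom.2
    have h4 := hφ₀ i
    exact ⟨q.map i₁.hom ≫ (appIso r (Groth.L24.St.idObj (V i))).hom ≫ ev.hom.1 ≫ φ₀ i,
      IsHomLift.comp_lift_id_left' 𝒳.p (V i) _ (ι i) _⟩
  choose β hβ using hβ
  have hsmη : ∀ i, LocP @Smooth (uK hA (hη i)) := fun i =>
    haveI := hβ i
    haveI := hι i
    locP_smooth_uK hA (hξ i) (hη i) (β i) (ι i) (π i) (hπ i) (hπs i) (hsm i)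
  obtain ⟨Q, ρ, hρ, hρs⟩ := (isAlgSpace_KSp hA (qObj_p q)).atlas
  let x := (ptEquiv hA (qObj_p q) ρ).x
  let b := (ptEquiv hA (qObj_p q) ρ).u
  have hb : Smooth b.left := smooth_of_nhd _ fun y => by
    obtain ⟨i, v, hv⟩ := D.cover (x.left y)
    haveI := hα i
    obtain ⟨l, hl, -, -, hlu⟩ := exists_chart_kPush hA (qObj_p q) (hη i) (α i) (D.inj i) ρ hρ hρs
    have hs : Smooth (pullback.fst x (D.inj i) ≫ b).left :=
      hsmη i l (𝟙 _) _ hl (Groth.L23.repWith_of_isIso _) (by rw [Category.comp_id, hlu])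
    have sq := (IsPullback.of_hasPullback x (D.inj i)).map (Over.forget S)
    have hfst : IsOpenImmersion (pullback.fst x (D.inj i)).left :=
      MorphismProperty.of_isPullback (P := @IsOpenImmersion) sq.flip (inferInstanceAs (IsOpenImmersion (D.inj i).left))
    obtain ⟨z, hz, -⟩ := Groth.L24.Boot.exists_point sq y v hv.symm
    rw [Over.comp_left] at hs
    have := nhd_smooth_of_flp_comp (pullback.fst x (D.inj i)).left b.left z
    rwa [show (pullback.fst x (D.inj i)).left z = y from hz] at this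
  have hsmooth : LocP @Smooth (uK hA (qObj_p q)) :=
    Groth.L23.locP_of_chart Groth.L23.etLocal_smooth hρ hρs (Groth.L23.repWith_of_isIso (𝟙 _))
      (show ρ ≫ uK hA (qObj_p q) = (yon S).map b ≫ 𝟙 _ by rw [Category.comp_id, comp_uK]) hb
  have hq1 := repWith_smooth_of_uK q hA hsmooth
  refine ⟨D.V, q, hq1, ?_, ?_⟩
  · refine Groth.L24.St.repWith_surjective_of_isSurjective (Groth.L24.St.overCat_isFibGrpd D.V) h𝒳
      (Groth.L24.St.repWith_rep1 hq1) ((Groth.L24.St.isSurjective_iff_ofChart q).2 fun z => ?_)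
    obtain ⟨u, rfl⟩ := (Groth.L24.St.isSurjective_iff_ofChart f).1
      (Groth.L24.St.isSurjective_of_repWith (Groth.L24.St.overCat_isFibGrpd U) h𝒳 hA.surj) z
    obtain ⟨d, hd, hc⟩ := exists_parChart hA u
    let i : I := ⟨⟨d, hd⟩⟩
    obtain ⟨y, ⟨v, hv⟩, hyu⟩ := hcov i u hc
    haveI := hα i
    haveI := hβ i
    obtain ⟨l, -, -, -, hlu⟩ := exists_chart_kPush hA (hξ i) (hη i) (β i) (ι i) (π i) (hπ i) (hπs i)
    let p := (ptEquiv hA (hη i) l).push (α i) (D.inj i)
    have hpu : p.u = pullback.fst (ptEquiv hA (hξ i) (π i)).x (ι i) ≫ (ptEquiv hA (hξ i) (π i)).u :=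
      (yon S).map_injective ((comp_uK hA (hη i) l).symm.trans hlu)
    obtain ⟨z, hz, -⟩ := Groth.L24.Boot.exists_point
      ((IsPullback.of_hasPullback (ptEquiv hA (hξ i) (π i)).x (ι i)).map (Over.forget S)) y v hv.symm
    refine ⟨p.x.left z, ?_⟩
    rw [ofChart_eq_of_pt q hA p z, hpu, Over.comp_left, Scheme.Hom.comp_apply,
      show (pullback.fst (ptEquiv hA (hξ i) (π i)).x (ι i)).left z = y from hz, hyu]
  · have w : ρ ≫ xK hA (qObj_p q) = (yon S).map x ≫ 𝟙 _ := by rw [Category.comp_id, comp_xK]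
    have hxf : Flat x.left := (flp_xK hA (qObj_p q)).1 ρ (𝟙 _) x hρ (Groth.L23.repWith_of_isIso _) w
    have hxp : LocallyOfFinitePresentation x.left :=
      (flp_xK hA (qObj_p q)).2 ρ (𝟙 _) x hρ (Groth.L23.repWith_of_isIso _) w
    have hxs : Surjective x.left := ⟨fun t => by
      obtain ⟨p, hp⟩ := surj_xK hA (qObj_p q) (Points.ofScheme D.V t)
      obtain ⟨y, rfl⟩ := Groth.L23.surjective_ofPt hρs p
      rw [Points.map_ofPt, comp_xK, Groth.L23.ofPt_map] at hp
      exact ⟨y, (Points.schemeEquiv D.V).injective hp⟩⟩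
    exact ⟨Q, x, b, hxf, hxp, hxs, hb⟩

include hA in
/-- A stack with a flat atlas of finite presentation has a smooth atlas. -/
theorem exists_smooth_atlas : ∃ (V : Over S) (q : FibCat.overCat V ⥤ᵇ 𝒳),
    AlgSt.RepByAlgSpWith (LocP @Smooth) q ∧ AlgSt.RepByAlgSpWith IsSurjectiveMor q ∧
      (Smooth U.hom → Smooth V.hom) := by
  obtain ⟨V, q, hq, hqs, W, x, b, hxf, hxp, hxs, hb⟩ := exists_smooth_atlas' hA
  refine ⟨V, q, hq, hqs, fun hU => Groth.L23.FppfSmooth.smooth_of_fppf_comp x.left V.hom ?_⟩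
  rw [Over.w x, ← Over.w b]
  infer_instance

include hA in
/-- A stack with a flat atlas of finite presentation is algebraic. -/
theorem isAlgStack_of_flat_atlas : AlgSt.IsAlgStack Scheme.fppfPrecoverage 𝒳 := by
  obtain ⟨V, q, hq, hqs, -⟩ := exists_smooth_atlas hA
  exact Groth.L24.St.isAlgStack_of_atlas hA.stack ⟨V, q, hq, hqs⟩

end Groth.L09.Artin.Cand
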