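import Groth.Agent.L09.Artin.Atlas.Main
import Groth.Agent.L24.Tors.QuotEtale

/-!
# Quotient stacks by flat groups of finite presentation
-/

set_option autoImplicit false
set_option backward.isDefEq.respectTransparency false
set_option backward.isDefEq.respectTransparency.types false

universe u

open CategoryTheory AlgebraicGeometry AlgSp MonoidalCategory

noncomputable section

namespace Groth.L09.Artin

open Groth.L24.Tors Groth.L24.St

variable {S : Scheme.{u}} {G : Over S} [GrpObj G] {X : Over S} (aX : AlgGrp.Action G X)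

/-- The canonical map to the quotient stack is a flat atlas. -/
theorem atl_quotSt [Flat G.hom] [LocallyOfFinitePresentation G.hom] [IsAffineHom G.hom] :
    Cand.Atl (BasedFunctor.comp (AlgSt.ofOverCat X) (AlgSt.quotMap Scheme.fppfPrecoverage G aX)) := by
  have hB := IsAlgSpace.yon_obj (Over.mk (𝟙 S))
  have tr : ∀ {P : MorphismProperty (Sp S)},
      AlgSt.RepByAlgSpWith P (AlgSt.spQuotMap Scheme.fppfPrecoverage ((schSp S).obj G) (schAction aX)) →
        AlgSt.RepByAlgSpWith P (BasedFunctor.comp (AlgSt.ofOverCat X) (AlgSt.quotMap Scheme.fppfPrecoverage G aX)) :=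
    fun h => (repWith_quotMap_iff isEquivOver_toSpQuot_fppf _).2 h
  have hf := tr (spQuotMap_locP (schAction aX) hB (isAlgSpace_schSp G) Groth.L23.etLocal_flat
    (locP_schSp_hom Groth.L23.etLocal_flat inferInstance))
  have hp := tr (spQuotMap_locP (schAction aX) hB (isAlgSpace_schSp G) Groth.L23.etLocal_lfp
    (locP_schSp_hom Groth.L23.etLocal_lfp inferInstance))
  exact ⟨isStack_quotSt_fppf,
    repWith_mono (fun _ _ _ _ h => ⟨Groth.L23.locP_mono (fun _ h => h.1) h, Groth.L23.locP_mono (fun _ h => h.2) h⟩)
      (repWith_locP_and hf hp),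
    tr (spQuotMap_surjective (schAction aX) hB (isAlgSpace_schSp G))⟩

theorem isAlgStack_quotSt [Flat G.hom] [LocallyOfFinitePresentation G.hom] [IsAffineHom G.hom] :
    AlgSt.IsAlgStack Scheme.fppfPrecoverage (AlgSt.QuotSt Scheme.fppfPrecoverage G aX) :=
  Cand.isAlgStack_of_flat_atlas (atl_quotSt aX)

end Groth.L09.Artin
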