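import Groth.Agent.L09.Artin.Cand.Space
import Groth.Agent.L24.St.Bootstrap2
import Groth.Agent.L24.St.FlatCover
import Groth.Agent.L24.St.Yoneda

/-!
# Maps from schemes to a stack with a flat atlas

Such maps are representable by algebraic spaces, and smooth as soon as the spaces of lifts are smooth over the
atlas.
-/

set_option autoImplicit false
set_option backward.isDefEq.respectTransparency false
set_option backward.isDefEq.respectTransparency.types false

universe u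

open CategoryTheory CategoryTheory.Limits AlgebraicGeometry Opposite AlgSp

noncomputable section

namespace Groth.L09.Artin.Cand

open Groth.L24.St
open Groth.L09.Artin.Res (FLP)

variable {S : Scheme.{u}} {𝒳 : AlgSt.Cat S} {U V : Over S} {f : FibCat.overCat U ⥤ᵇ 𝒳}

instance flp_respectsIso : (FLP : MorphismProperty (Sp S)).RespectsIso := inferInstance

/-- A map from a scheme to a stack with a flat atlas is representable by algebraic spaces. -/
theorem rep1_of_atl (hA : Atl f) (q : FibCat.overCat V ⥤ᵇ 𝒳) : AlgSt.RepByAlgSp1 q := by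
  intro T y
  have h𝒳 := hA.grpd
  have hW := L09.Fib.fp_isFibGrpd (overCat_isFibGrpd T) (overCat_isFibGrpd V) h𝒳 (F := y) (G := q)
  have hst : Stk.IsStack (AlgSp.J S) (FibCat.fp y q) :=
    isStack_fp (isStack_overCat T) (isStack_overCat V) (isPrestack_of_isStack hA.stack)
  have hs : FibCat.IsFibSetoid (FibCat.fp y q).p :=
    fp_isFibSetoid_of_setoids (isFibSetoid_of_repByAlgSp (overCat_repByAlgSp T))
      (isFibSetoid_of_repByAlgSp (overCat_repByAlgSp V)) h𝒳 y q
  have hQ := toClassPsh_isEquivOver (h := hW) hs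
  let X : Sp S := ⟨classPsh hW, (isSheaf_iff_isSheaf_of_type _ _).2
    ((Groth.L24.St.isStack_ofPsh_iff _).1 ((L09.Fib.isStack_iff _ hQ).1 hst))⟩
  let g := BasedFunctor.comp (FibCat.fpFst y q) y
  -- the flat cover is an algebraic space
  have hfq : AlgSt.RepByAlgSp (FibCat.fp f q) :=
    (repByAlgSp_of_equiv (fpSwap_isEquivOver (F := q) (G := f))).1 (repWith_rep1 hA.flp V q)
  have hyf : AlgSt.RepByAlgSp (FibCat.fp y f) := repWith_rep1 hA.flp T y
  have h1 : AlgSt.RepByAlgSp (FibCat.fp (FibCat.fpSnd y f) (FibCat.fpFst f q)) :=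
    repByAlgSp_fp (L09.Fib.fp_isFibGrpd (overCat_isFibGrpd U) (overCat_isFibGrpd V) h𝒳) (overCat_isFibGrpd U)
      (rep1_of_repByAlgSp hfq (overCat_repByAlgSp U) _) _ hyf
  have h2 : AlgSt.RepByAlgSp (FibCat.fp (BasedFunctor.comp (FibCat.fpFst y f) y) q) :=
    (repByAlgSp_of_equiv (fpMap_isEquivOver (isEquivOver_id _) (isEquivOver_id _)
      (show BasedFunctor.comp (BasedFunctor.id _) (BasedFunctor.comp (FibCat.fpFst y f) y) ≅
        BasedFunctor.comp (FibCat.fpSnd y f) f from FibCat.fpIso y f)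
      (Iso.refl _))).1 ((repByAlgSp_of_equiv (fpPaste_isEquivOver _ f q)).1 h1)
  have h3 : AlgSt.RepByAlgSp (FibCat.fp (FibCat.fpFst y f) (FibCat.fpFst y q)) :=
    (repByAlgSp_of_equiv (fpPaste_isEquivOver _ y q)).2 h2
  have h4 : AlgSt.RepByAlgSp (FibCat.fp g f) :=
    (repByAlgSp_of_equiv (fpPaste_isEquivOver _ y f)).1
      ((repByAlgSp_of_equiv (fpSwap_isEquivOver (F := FibCat.fpFst y f) (G := FibCat.fpFst y q))).1 h3)
  obtain ⟨G, e, he⟩ := h4
  let Φ : AlgSt.ofSp G.obj ⥤ᵇ AlgSt.ofSp X :=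
    BasedFunctor.comp e (BasedFunctor.comp (FibCat.fpFst g f) (toClassPsh hW))
  let p : G.obj ⟶ X := spMap Φ
  have key : ∀ {P : MorphismProperty (Sp S)} [P.RespectsIso], AlgSt.RepByAlgSpWith P f → RepBySpWith P p.hom :=
    fun {P} _ hP => (repBySpWith_iff p.hom).2 ((repWith_congr (isoOfSpMap Φ)).1 ((repWith_precomp he _).2
      ((repWith_postcomp hQ (FibCat.fpFst g f)).2 (repWith_fpFst g hP))))
  refine (repByAlgSp_of_equiv hQ).2 ⟨⟨X, ?_⟩, BasedFunctor.id _, isEquivOver_id _⟩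
  refine Groth.L24.Boot.isAlgSpace_of_flat_cover (I := PUnit.{u + 1}) (fun _ => G.property) (fun _ => p)
    (fun _ => key hA.flp) fun z => ?_
  obtain ⟨T', ξ, t, rfl⟩ := Groth.L23.exists_eq_ofPt z
  obtain ⟨-, hs'⟩ := (repBySpWith_hom_iff _ _).1 (key hA.surj) ξ _ _ (IsPullback.of_hasPullback p ξ)
  obtain ⟨w, hw⟩ := hs' (Points.ofScheme T' t)
  refine ⟨⟨⟩, Points.map (pullback.fst p ξ) w, ?_⟩
  rw [← Points.map_comp, pullback.condition, Points.map_comp, hw, ← Points.ofPt_eq_map_ofScheme]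

variable (q : FibCat.overCat V ⥤ᵇ 𝒳)

/-- The tautological object of a chart. -/
abbrev qObj : 𝒳.obj := q.obj (Over.mk (𝟙 V))

theorem qObj_p : 𝒳.p.obj (qObj q) = V := q.w_obj _

/-- A map from a scheme whose space of lifts is smooth over the atlas is smooth. -/
theorem repWith_smooth_of_uK (hA : Atl f) (h : LocP @Smooth (uK hA (qObj_p q))) :
    AlgSt.RepByAlgSpWith (LocP @Smooth) q := by
  have h𝒳 := hA.grpd
  refine (repWith_iff_fpFst_cover (pBase_locP Groth.L23.etLocal_smooth)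
    (isLocalOnBase_locP_fppf Groth.L23.etLocal_smooth) (overCat_isFibGrpd V) h𝒳 (overCat_isFibGrpd U)
    (rep1_of_atl hA q) (repWith_mono (fun _ _ _ _ h => h.1) hA.flp) (repWith_mono (fun _ _ _ _ h => h.2) hA.flp)
    hA.surj).2 ?_
  haveI : 𝒳.p.IsHomLift (𝟙 V) (𝟙 (qObj q)) := IsHomLift.id (qObj_p q)
  let e := BasedFunctor.comp (ptFun h𝒳 q (𝟙 (qObj q)) (f := f)) (fpSwap (F := q) (G := f))
  have he : FibCat.IsEquivOver e :=
    isEquivOver_comp (ptFun_isEquivOver h𝒳 q (𝟙 (qObj q))) (fpSwap_isEquivOver (F := q) (G := f))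
  refine (repWith_precomp he _).1 ?_
  let Φ : AlgSt.ofSp (KSp hA (qObj_p q)) ⥤ᵇ FibCat.overCat U := BasedFunctor.comp e (FibCat.fpFst f q)
  have hu : AlgSt.spMapOfOver Φ = uK hA (qObj_p q) := by
    apply ObjectProperty.hom_ext
    ext T p
    refine congrArg ULift.up ?_
    show eqToHom _ ≫ p.down.u = p.down.u
    simp
  show AlgSt.RepByAlgSpWith (LocP @Smooth) Φ
  refine (repWith_congr (overFactor Φ)).2 ((repWith_postcomp (toOverCat_isEquivOver U) _).2 ?_)
  exact repWith_ofSpMap_of_prop (pBase_locP Groth.L23.etLocal_smooth) (isAlgSpace_KSp hA _) (IsAlgSpace.yon_obj U) _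
    (hu.symm ▸ h)

/-- A lift of the tautological object identifies the points. -/
theorem ofChart_eq_of_pt (hA : Atl f) {T : Over S} (p : Pt f (qObj q) V T) (t : T.left) :
    AlgSt.Points.ofChart q (p.x.left t) = AlgSt.Points.ofChart f (p.u.left t) := by
  have h𝒳 := hA.grpd
  haveI : (FibCat.overCat V).p.IsHomLift p.x (Over.homMk p.x (Category.comp_id p.x) : Over.mk p.x ⟶ Over.mk (𝟙 V)) :=
    IsHomLift.map (FibCat.overCat V).p (Over.homMk p.x (Category.comp_id p.x) : Over.mk p.x ⟶ Over.mk (𝟙 V))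
  obtain ⟨χ, hχ, -⟩ := Groth.L09.Gerb.connect h𝒳 p.x
    (q.map (Over.homMk p.x (Category.comp_id p.x) : Over.mk p.x ⟶ Over.mk (𝟙 V))) p.m
  let i₁ : (Over.mk (𝟙 T ≫ p.x) : Over V) ≅ Over.mk p.x := Over.isoMk (Iso.refl _) rfl
  let i₂ : (Over.mk p.u : Over U) ≅ Over.mk (𝟙 T ≫ p.u) :=
    Over.isoMk (Iso.refl _) ((Category.id_comp _).trans (Category.id_comp _))
  have hl₁ : (FibCat.overCat V).p.IsHomLift (𝟙 T) i₁.hom := IsHomLift.map (FibCat.overCat V).p i₁.hom
  have hl₂ : (FibCat.overCat U).p.IsHomLift (𝟙 T) i₂.hom := IsHomLift.map (FibCat.overCat U).p i₂.hom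
  let φ : (BasedFunctor.comp (AlgSt.overMap p.x) q).obj (idObj T) ≅ (BasedFunctor.comp (AlgSt.overMap p.u) f).obj (idObj T) :=
    q.toFunctor.mapIso i₁ ≪≫ χ ≪≫ f.toFunctor.mapIso i₂
  have hφ : OverId φ.hom := by
    have h1 : 𝒳.p.IsHomLift (𝟙 T) (q.map i₁.hom) := inferInstance
    have h2 : 𝒳.p.IsHomLift (𝟙 T) (f.map i₂.hom) := inferInstance
    exact overId_of_lift (show 𝒳.p.IsHomLift (𝟙 T) (q.map i₁.hom ≫ χ.hom ≫ f.map i₂.hom) from inferInstance)
  obtain ⟨i, -⟩ := exists_iso_of_evalId h𝒳 φ hφ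
  rw [← ofChart_overMap_comp, ← ofChart_overMap_comp, ofChart_congr i]

end Groth.L09.Artin.Cand
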